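import Groth.Agent.AbVar.K340.FibRank
import Groth.Agent.AbVar.K511.Poin2
import Groth.Agent.AbVar.K512.FMIso
import Groth.Agent.Pic13.H942.ChiFam
import Groth.Agent.PerfC.RpushSingle
import Groth.Agent.Omega.K935.CoprodRank

/-!
# The Fourier-Mukai transform of a coherent sheaf and cohomology
-/

set_option autoImplicit false
universe u

open CategoryTheory CategoryTheory.Limits MonoidalCategory CartesianMonoidalCategory MonObj GrpObj AlgebraicGeometry
attribute [local instance] HasDerivedCategory.standard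

namespace K340.ChiFM

open Groth.Agent Groth.Agent.PerfB.TensExact Groth.Agent.PerfB.TensInv Groth.Agent.Dcoh.MapDer
  Groth.Agent.Dcoh.DerPull K512.FMIso

/-- `Lp^*` of a module in degree zero, `p` flat. -/
noncomputable def pullInD {X Y : Scheme.{u}} (f : X ⟶ Y) [Flat f] [DCoh.HasLpull f] (F : Y.Modules) :
    (DCoh.Lpull f).obj (DCoh.inD Y F) ≅ DCoh.inD X ((Scheme.Modules.pullback f).obj F) :=
  haveI := PerfB.FlatPull.preservesFiniteLimits_pullback f
  (lpullFlatIso f).app _ ≪≫ ((Scheme.Modules.pullback f).mapDerivedCategorySingleFunctor 0).app F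

/-- `- ⊗^L M` of a module in degree zero, `M` invertible. -/
noncomputable def tensInD {X : Scheme.{u}} (F : X.Modules) {M : X.Modules} (hM : PicF.IsInvertible M)
    [DCoh.HasLTensorMod M] :
    (DCoh.LTensorMod M).obj (DCoh.inD X F) ≅ DCoh.inD X (CohB1.tensorMod F M) :=
  haveI := pfl hM
  (LTensorModIso M).app _ ≪≫ ((DCoh.tensorRightMod M).mapDerivedCategorySingleFunctor 0).app F

/-- cohomology sheaves of the integral transform -/
theorem nonempty_HD {X Y Z : Scheme.{u}} (p : Z ⟶ X) (q : Z ⟶ Y) [Flat p] {P : Z.Modules}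
    (hP : PicF.IsInvertible P) [DCoh.HasLpull p] [DCoh.HasLTensorMod P] [DCoh.HasRpush q]
    [HasInjectiveResolutions Z.Modules] (F : X.Modules) (j : ℕ) :
    Nonempty (DCoh.HD ((DCoh.Lpull p ⋙ DCoh.LTensorMod P ⋙ DCoh.Rpush q).obj (DCoh.inD X F)) (j : ℤ) ≅
      (Coh.Rpush q j).obj (CohB1.tensorMod ((Scheme.Modules.pullback p).obj F) P)) := by
  let e1 : (DCoh.Lpull p ⋙ DCoh.LTensorMod P ⋙ DCoh.Rpush q).obj (DCoh.inD X F) ≅
      (DCoh.Rpush q).obj (DCoh.inD Z (CohB1.tensorMod ((Scheme.Modules.pullback p).obj F) P)) :=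
    (DCoh.Rpush q).mapIso ((DCoh.LTensorMod P).mapIso (pullInD p F) ≪≫ tensInD _ hP)
  exact ⟨(DerivedCategory.homologyFunctor _ (j : ℤ)).mapIso e1 ≪≫ PerfC.RpushSingle.iso q j _⟩

open Groth.Agent.Grpsch.PicGrp Groth.Agent.Grpsch.Cube Groth.Agent.Fga.RigGrp K732.Cov K732.PicZero
  K732.RigSheaf K732.Dual K732.CubeSec K732.Transp K732.Prim K732.BC K524.Kun K524.PicZeroVan K511.PFib K511.Poin2

variable {k : Type u} [Field k] {A At : Over (Spec (CommRingCat.of k))} [GrpObj A] [IsProper A.hom] [Smooth A.hom]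
  [GeometricallyConnected A.hom] [GrpObj At] [LocallyOfFiniteType At.hom] [GeometricallyConnected At.hom]
  {φ : ∀ T : Over (Spec (CommRingCat.of k)), PicF.Cl (PicF.XT A.hom T) → (T ⟶ At)}

/-- The cohomology of `F` is the cohomology of the fibre of `p^* F ⊗ P` at the origin. -/
theorem finrank_eq (hD : AbDual.IsDualAV Scheme.fppfPrecoverage A At φ)
    {P : (pullback A.hom At.hom).Modules} (hP : PicF.IsInvertible P)
    (hPξ : AbDual.IsPoincareCl A At φ (PicF.cl P)) (F : A.left.Modules) (hF : Coh.IsCoh F) (i : ℕ) :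
    @Module.finrank k (Coh.HH A.left F i) _ _ (@Coh.moduleOver k _ A.left ⟨A.hom⟩ F i) =
      CohIII.fiberRank (pullback.snd A.hom At.hom)
        (CohB1.tensorMod ((Scheme.Modules.pullback (pullback.fst A.hom At.hom)).obj F) P) i
        (η[At].left (IsLocalRing.closedPoint k)) := by
  obtain ⟨ξ, h1, h2, h3, h4⟩ := K732.AV.exists_of_isPoincareCl hPξ
  have hξ : ξ = mk P hP := Fga.RigGrp.toCl_injective h4
  let T : Over (Spec (CommRingCat.of k)) := Over.mk (𝟙 (Spec (CommRingCat.of k)))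
  let t : T ⟶ At := Over.homMk η[At].left (Over.w η[At])
  have ht : t = 1 := by
    ext1
    exact (Category.id_comp _).symm
  have htriv : pull (PicF.XTmap A.hom t) ξ = 1 := by rw [ht]; exact pull_one hD h1 h2 h3 T
  rw [hξ, pull_mk, mk_eq_one_iff] at htriv
  obtain ⟨e⟩ := htriv
  have hqF : Coh.IsQCoh ((Scheme.Modules.pullback (pullback.fst A.hom At.hom)).obj F) :=
    FormalA.PullbackQC.isQCoh_pullback _ _ hF.1
  have hq : Coh.IsQCoh (CohB1.tensorMod ((Scheme.Modules.pullback (pullback.fst A.hom At.hom)).obj F) P) :=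
    Ega2.TensGen.isQCoh_tensor hqF hP
  let iA : A.left.Over (Spec (CommRingCat.of k)) := ⟨A.hom⟩
  let iT : (PicF.XT A.hom T).Over (Spec (CommRingCat.of k)) := ⟨PicF.XTproj A.hom T⟩
  have hA : IsProper (A.left ↘ Spec (CommRingCat.of k)) := inferInstanceAs (IsProper A.hom)
  let e1 := CohqB.PullTwist471.pullTensorIsoRight (PicF.XTmap A.hom t)
    (CohqB.PullTwist471.hasBases_of_isInvertible hP)
    ((Scheme.Modules.pullback (pullback.fst A.hom At.hom)).obj F)
  have hfst : PicF.XTmap A.hom t ≫ pullback.fst A.hom At.hom = pullback.fst A.hom T.hom := XTmap_fst _ _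
  let e2 : (Scheme.Modules.pullback (PicF.XTmap A.hom t)).obj
      (CohB1.tensorMod ((Scheme.Modules.pullback (pullback.fst A.hom At.hom)).obj F) P) ≅
      (Scheme.Modules.pullback (pullback.fst A.hom T.hom)).obj F :=
    e1 ≪≫ Ega2.Tens.mapTIso ((Scheme.Modules.pullbackComp _ _).app F ≪≫
      (Scheme.Modules.pullbackCongr hfst).app F) e ≪≫ Ega2.Tens.runit _
  have H := isPullback_XTmap (f := A.hom) t
  have f1 := K340.FibRank.finrank_of_point (k := k) (pr A At) _ hq t.left (X' := PicF.XT A.hom T)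
    (PicF.XTmap A.hom t) H i
  have hpb : IsPullback (pullback.fst A.hom T.hom) ((PicF.XT A.hom T) ↘ Spec (CommRingCat.of k))
      (A.left ↘ Spec (CommRingCat.of k)) (Spec.map (CommRingCat.ofHom (algebraMap k k))) := by
    have h5 : Spec.map (CommRingCat.ofHom (algebraMap k k)) = T.hom := Spec.map_id _
    rw [h5]
    exact IsPullback.of_hasPullback A.hom T.hom
  have f2 := K524.Num.finrank_baseChange k A.left k (PicF.XT A.hom T) (pullback.fst A.hom T.hom) hpb F hF.1 i
  obtain ⟨e', he'⟩ := Ega3B.FibreResid.exists_equiv_HH e2 i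
  let e3 : Coh.HH _ ((Scheme.Modules.pullback (PicF.XTmap A.hom t)).obj
      (CohB1.tensorMod ((Scheme.Modules.pullback (pullback.fst A.hom At.hom)).obj F) P)) i ≃ₗ[k]
    Coh.HH _ ((Scheme.Modules.pullback (pullback.fst A.hom T.hom)).obj F) i :=
    { e' with map_smul' := fun r x => he' _ x }
  exact f2.symm.trans (e3.finrank_eq.symm.trans f1)

/-- The Euler characteristic of a module satisfying the index condition. -/
theorem euler_eq (hD : AbDual.IsDualAV Scheme.fppfPrecoverage A At φ) [IsProper At.hom] [Smooth At.hom]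
    {P : (pullback A.hom At.hom).Modules} (hP : PicF.IsInvertible P)
    (hPξ : AbDual.IsPoincareCl A At φ (PicF.cl P))
    [DCoh.HasLpull (pullback.fst A.hom At.hom)] [DCoh.HasLTensorMod P] [DCoh.HasRpush (pullback.snd A.hom At.hom)]
    (F : A.left.Modules) (hF : Coh.IsCoh F) (i n : ℕ)
    (hvan : ∀ j : ℤ, j ≠ (i : ℤ) →
      IsZero (DCoh.HD ((DCoh.Lpull (pullback.fst A.hom At.hom) ⋙ DCoh.LTensorMod P ⋙
        DCoh.Rpush (pullback.snd A.hom At.hom)).obj (DCoh.inD A.left F)) j))
    (hfree : FlatMod.IsFinLocFreeOfRank n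
      (DCoh.HD ((DCoh.Lpull (pullback.fst A.hom At.hom) ⋙ DCoh.LTensorMod P ⋙
        DCoh.Rpush (pullback.snd A.hom At.hom)).obj (DCoh.inD A.left F)) (i : ℤ))) :
    @Curv2.euler k _ A.left ⟨A.hom⟩ F = (-1 : ℤ) ^ i * (n : ℤ) := by
  set M := CohB1.tensorMod ((Scheme.Modules.pullback (pullback.fst A.hom At.hom)).obj F) P with hM
  have hI : HasInjectiveResolutions (pullback A.hom At.hom).Modules :=
    Groth.Agent.Dcoh.DerSch.hasInjectiveResolutions _
  have hlN : IsLocallyNoetherian At.left := LocallyOfFiniteType.isLocallyNoetherian At.hom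
  have hcoh : Coh.IsCoh M :=
    Ega3B.CohTensor.isCoh_tensor (FormalA.PullbackQC.isCoh_pullback _ _ hF) hP
  have hflat : FlatMod.IsFlatOver (pullback.snd A.hom At.hom) M :=
    Ega3B.FlatTensInv.isFlatOver_tensor _ hP fun z =>
      Fdesc.FlatBC.isFlatOverAt_pullback (IsPullback.of_hasPullback _ _) F z
        (Pic13.H942.ChiFam.flat_over_field _ F _)
  have hlf : ∀ j : ℕ, FlatMod.IsFinLocFreeOfRank (if j = i then n else 0)
      ((Coh.Rpush (pullback.snd A.hom At.hom) j).obj M) := by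
    intro j
    obtain ⟨e⟩ := nonempty_HD (pullback.fst A.hom At.hom) (pullback.snd A.hom At.hom) hP F j
    by_cases hj : j = i
    · subst hj
      rw [if_pos rfl]
      exact K935.CoprodRank.isFinLocFreeOfRank_of_iso e hfree
    · rw [if_neg hj]
      exact K935.CoprodRank.isFinLocFreeOfRank_zero_of_isZero
        ((hvan j (by exact_mod_cast hj)).of_iso e.symm)
  have key : ∀ j : ℕ, @Module.finrank k (Coh.HH A.left F j) _ _ (@Coh.moduleOver k _ A.left ⟨A.hom⟩ F j) =
      if j = i then n else 0 := fun j =>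
    (finrank_eq hD hP hPξ F hF j).trans
      (K340.FibRank.fiberRank_eq (pullback.snd A.hom At.hom) M hcoh hflat _ hlf j _)
  unfold Curv2.euler
  rw [finsum_eq_single _ i fun j hj => ?_]
  · rw [key, if_pos rfl]
  · rw [key, if_neg hj, Nat.cast_zero, MulZeroClass.mul_zero]

end K340.ChiFM
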