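import Groth.Agent.AbVar.K524.Num
import Groth.Agent.Ega3B.Package
import Groth.Agent.Ega3B.SplitCx
import Groth.Agent.Ega2.BasSec
import Groth.Agent.S0030

/-!
# Fibre ranks when all higher direct images are locally free

* `fiberRank_eq` : `dim H^i(X_y, F_y)` is the rank of `R^i f_* F`;
* `finrank_of_point` : `dim H^i(X', F')` for the fibre `X'` over any field valued point.
-/

set_option autoImplicit false
universe u

open CategoryTheory CategoryTheory.Limits AlgebraicGeometry

namespace K340.FibRank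

open Groth.Agent

theorem fiberRank_eq {X Y : Scheme.{u}} (f : X ⟶ Y) [IsProper f] [IsLocallyNoetherian Y]
    (F : X.Modules) (hF : Coh.IsCoh F) (hfl : FlatMod.IsFlatOver f F)
    [HasInjectiveResolutions X.Modules] (r : ℕ → ℕ)
    (hlf : ∀ i : ℕ, FlatMod.IsFinLocFreeOfRank (r i) ((Coh.Rpush f i).obj F)) (i : ℕ) (y : Y) :
    CohIII.fiberRank f F i y = r i := by
  obtain ⟨V, hV, hyV, -⟩ := exists_isAffineOpen_mem_and_subset (x := y) (U := ⊤) trivial
  have hN : IsNoetherianRing Γ(Y, V) := IsLocallyNoetherian.component_noetherian ⟨V, hV⟩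
  obtain ⟨P, hP, ⟨b, hb⟩, hG, hr⟩ := Ega3B.Package.package f F hF hfl V hV
  have hfl' : ∀ n : ℕ, Module.Flat Γ(Y, V) (P.homology (-(n : ℤ))) ∧
      ∀ x : PrimeSpectrum Γ(Y, V), Module.rankAtStalk (R := Γ(Y, V)) (P.homology (-(n : ℤ))) x = r n := by
    intro n
    obtain ⟨h1, h2, h3⟩ := Ega2.BasSec.sections_of_isFinLocFreeOfRank (hlf n) hV
    obtain ⟨e⟩ := hG n
    refine ⟨Module.Flat.of_linearEquiv e.symm, fun x => ?_⟩
    rw [← h3 x]
    exact (congrFun (Module.rankAtStalk_eq_of_equiv e) x).symm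
  have hfl'' : ∀ j : ℤ, j ≤ -(i : ℤ) → Module.Flat Γ(Y, V) (P.homology j) := by
    intro j hj
    obtain ⟨n, rfl⟩ : ∃ n : ℕ, j = -(n : ℤ) := ⟨j.natAbs, by omega⟩
    exact (hfl' n).1
  rw [(hr ⟨y, hyV⟩ i).2, ← Ega3B.SplitCx.dRank_of_flat_homology P hP b (fun k hk => hb k (Or.inl hk)) _
    hfl'' _]
  exact (hfl' i).2 _

theorem finrank_of_point {X Y : Scheme.{u}} (f : X ⟶ Y) [QuasiCompact f] [QuasiSeparated f]
    (F : X.Modules) (hF : Coh.IsQCoh F) {k : Type u} [Field k] (t : Spec (CommRingCat.of k) ⟶ Y)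
    {X' : Scheme.{u}} [X'.Over (Spec (CommRingCat.of k))] (g : X' ⟶ X)
    (H : IsPullback g (X' ↘ Spec (CommRingCat.of k)) f t) (i : ℕ) :
    Module.finrank k (Coh.HH X' ((Scheme.Modules.pullback g).obj F) i) =
      CohIII.fiberRank f F i (t (IsLocalRing.closedPoint k)) := by
  set y := t (IsLocalRing.closedPoint k) with hy
  let a : Y.residueField y ⟶ CommRingCat.of k := Y.descResidueField (Scheme.stalkClosedPointTo t)
  have ha : Spec.map a ≫ Y.fromSpecResidueField y = t :=
    Scheme.descResidueField_stalkClosedPointTo_fromSpecResidueField k Y t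
  let _ : Algebra (Y.residueField y) k := a.hom.toAlgebra
  let _ : (f.fiber y).Over (Spec (CommRingCat.of (Y.residueField y))) := ⟨f.fiberToSpecResidueField y⟩
  have i1 : QuasiCompact ((f.fiber y) ↘ Spec (CommRingCat.of (Y.residueField y))) :=
    inferInstanceAs (QuasiCompact (pullback.snd f (Y.fromSpecResidueField y)))
  have i2 : QuasiSeparated ((f.fiber y) ↘ Spec (CommRingCat.of (Y.residueField y))) :=
    inferInstanceAs (QuasiSeparated (pullback.snd f (Y.fromSpecResidueField y)))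
  have hfib : IsPullback (f.fiberι y) (f.fiberToSpecResidueField y) f (Y.fromSpecResidueField y) :=
    IsPullback.of_hasPullback _ _
  let g' : X' ⟶ f.fiber y := hfib.lift g ((X' ↘ Spec (CommRingCat.of k)) ≫ Spec.map a) (by
    rw [H.w, Category.assoc, ha])
  have hg' : g' ≫ f.fiberι y = g := hfib.lift_fst _ _ _
  have hpb : IsPullback g' (X' ↘ Spec (CommRingCat.of k)) ((f.fiber y) ↘ Spec (CommRingCat.of (Y.residueField y)))
      (Spec.map (CommRingCat.ofHom (algebraMap (Y.residueField y) k))) := by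
    have h := H
    rw [← hg', ← ha] at h
    exact IsPullback.of_right h (hfib.lift_snd _ _ _) hfib
  have h1 := K524.Num.finrank_baseChange (Y.residueField y) (f.fiber y) k X' g' hpb
    ((Scheme.Modules.pullback (f.fiberι y)).obj F) (FormalA.PullbackQC.isQCoh_pullback _ _ hF) i
  obtain ⟨e', he'⟩ := Ega3B.FibreResid.exists_equiv_HH
    ((Scheme.Modules.pullbackCongr hg').symm.app F ≪≫ ((Scheme.Modules.pullbackComp g' (f.fiberι y)).symm.app F)) i
  let e2 : Coh.HH _ ((Scheme.Modules.pullback g).obj F) i ≃ₗ[k]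
    Coh.HH _ ((Scheme.Modules.pullback g').obj ((Scheme.Modules.pullback (f.fiberι y)).obj F)) i :=
    { e' with map_smul' := fun r x => he' _ x }
  exact e2.finrank_eq.trans h1

end K340.FibRank
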